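import Mathlib
import Cfsg.Agent.TcData.SE7c.Common

set_option autoImplicit false
set_option Elab.async false
set_option maxRecDepth 100000
set_option linter.all false

namespace Cfsg.Agent.TcData.SE7c.I56

open Cfsg.Spor Cfsg.Agent.Lib.TcFacts Cfsg.Agent.Lib.TcBits Cfsg.Agent.Lib.TcPres Cfsg.Agent.Lib.SchurDefs.E7c Cfsg.Agent.TcData.SE7c

/-- The generators of the subgroup. -/
abbrev SS : Set (FreeGroup Gen) := {c, d, e, f, h, i}

/-- The subgroup. -/
abbrev HH : Subgroup (PresentedGroup RR) := (Subgroup.closure SS).map (PresentedGroup.mk RR)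

/-- Long generators of the subgroup. -/
noncomputable def macros : List (FreeGroup Gen) := []

/-- The relators, as words in letters. -/
def Rels : List (List ℕ) := [
  [0, 0],
  [0, 1, 0, 1, 0, 1],
  [0, 2, 0, 2],
  [0, 3, 0, 3],
  [0, 4, 0, 4],
  [0, 5, 0, 5],
  [0, 6, 0, 6],
  [1, 0, 1, 0, 1, 0],
  [1, 1],
  [1, 2, 1, 2, 1, 2],
  [1, 3, 1, 3],
  [1, 4, 1, 4],
  [1, 5, 1, 5, 1, 5],
  [1, 6, 1, 6],
  [2, 0, 2, 0],
  [2, 1, 2, 1, 2, 1],
  [2, 2],
  [2, 3, 2, 3, 2, 3],
  [2, 4, 2, 4],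
  [2, 5, 2, 5],
  [2, 6, 2, 6],
  [3, 0, 3, 0],
  [3, 1, 3, 1],
  [3, 2, 3, 2, 3, 2],
  [3, 3],
  [3, 4, 3, 4, 3, 4],
  [3, 5, 3, 5],
  [3, 6, 3, 6],
  [4, 0, 4, 0],
  [4, 1, 4, 1],
  [4, 2, 4, 2],
  [4, 3, 4, 3, 4, 3],
  [4, 4],
  [4, 5, 4, 5],
  [4, 6, 4, 6],
  [5, 0, 5, 0],
  [5, 1, 5, 1, 5, 1],
  [5, 2, 5, 2],
  [5, 3, 5, 3],
  [5, 4, 5, 4],
  [5, 5],
  [5, 6, 5, 6, 5, 6],
  [6, 0, 6, 0],
  [6, 1, 6, 1],
  [6, 2, 6, 2],
  [6, 3, 6, 3],
  [6, 4, 6, 4],
  [6, 5, 6, 5, 6, 5],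
  [6, 6],
  [0, 0],
  [0, 0],
  [1, 1],
  [1, 1],
  [2, 2],
  [2, 2],
  [3, 3],
  [3, 3],
  [4, 4],
  [4, 4],
  [5, 5],
  [5, 5],
  [6, 6],
  [6, 6]]

/-- The table. -/
noncomputable def T : Tr := (.node (.node (.node (.node (.leaf (nat_lit 0x63000100bf2987a013325279e4848c539a6198f305a780030c00080730122e9871b0044b24185cbce2d9471689380014c00040294a5194040af49a56a0d319c795262ca769a000a20002017803ca09184f44c2c007130e289d7184d3cc00043000100892904aa8b24d2592282c8f3965550d22da4800204000805100d2158510572880b144b00c1f2840feb28000ec000401bca38f2a24774923aa091cce48e26248cc96000650002010c02c60f8c358c81a4440ce1207a014319070002a8001006c0122a7c5174638b621c5908e2b8071932400014000080287861780409dd184ce0c256c61234308d914000820004010b028a401c40b8a1f5850f2a28754104400c000320002006d31034908194440c202058e0c3800a173c40001180010028686133030916183c8082a0081128308121800050000800d1c2060c10202041c0060b142050810243080000000040030208141040e00404041018208081040208200000000000000000000000000000000000000000000000))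 (.leaf (nat_lit 0x0))) (.node (.leaf (nat_lit 0x0)) (.leaf (nat_lit 0x0)))) (.node (.node (.leaf (nat_lit 0x163000102812d946aafa2d37d128be853db51531a0db7800b04000814e0319f5974f57ba78b5d3b56e9d29651c0c00054c00040994b54e2ab66f4db35a2ba19d7cd26b6676da00295000204fc0be56fd3308ec97c564b61aa7205d2c92c0013b000102472cf29aab93d344d88b64d3d7259ab925b5800994000813102d8e3f34863aa3f14f2e3ac8f4154764a8004c4000408d274ca80b2328d3184298a9d345eea62c7d2002560002043a59627551280ab895144467a2213510fb680011a80010244057077e385c72c808aa150cf09827844938008cc00081053668d815410b9a0044714029811524049980044a00040868143e9f8a1814efe8a57ec32bf2095f724a00203000203e0d91ee648f62e4791103d6f9206a4cf326100100800101e0c4706027772f13fc099daac6eb520765718007c400080e96227c812bbc28dd0b44e756272a8fb9ab88003c600040719b0b88c85c25c2de21e705f0b7ca85e8cc8001d200020371381b6940d945f78812358e75d4046d73de)) (.leaf (nat_lit 0x0))) (.node (.leaf (nat_lit 0x0)) (.leaf (nat_lit 0x0))))) (.node (.node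 (.node (.leaf (nat_lit 0xd9000101a89bed349f6d05034907d9e736e4022681ee00068800080cd4de6624f329171ba042c839a64dcf3619800034000040633ceb1727586eb6c271d6a810305a7580cb400182000202f93717a938cb09e5e20e2e8e6177738d165f000c000010170f36b7c9b6204ead5c659c03eb469b59b2c0005c400080b161a5858d2b97615ab34c701e5628bafc074002c000040553ccaa726550eb2b621b53b6ca99a654acac001510002028d86145630af09a502cb2e40713ea2ab201b000a28001013b82e977d44dc6aa6a25d330aeab01a4c48b8004c400080956164a58b24d759424309255648a89a900640024a0004047e0aa29f493812e8d8934642aa780611722a001160002020a5452c02e87a524350a2167510932883b540007a800101018267b7cf3fc69a38854fb0a0900163e489800398000807494e4480aa20250f141e779d23b4c91d6d48001c8000404080a1c8644da11c71c51380a89bc444dc1a2000d5000201af040ccf9a6a8d034c481f8e4cd102067910)) (.leaf (nat_lit 0x0))) (.node (.leaf (nat_lit 0x0)) (.leaf (nat_lit 0x0)))) (.node (.node (.leaf (nat_lit 0x374000206207e30e371820b7c363c6145e308271830f8001b1800103006ef7f337c081c5ec8dafd7ef7d2b7be13b800d4800081794f6bc25b5dd1daf406f743b5bb5db5d4fd80068200040b931adc6cd6e0beb6f5b5b981b5b54d2dd5ea00325000205af0d2cafe56a8f4b4c5a5a21d2d806b669330018a800102c78675e7f1b1479d862cec10e75f833b3b3a000c180008156970b201a5729cab74655a9f2accd955edc4005cc00040a7cb75740cea94e353a31a94f8d426beb0ce4002e0000205540ca9b9614c770a5b98529bc292d614866e))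 (.leaf (nat_lit 0x0))) (.node (.leaf (nat_lit 0x0)) (.leaf (nat_lit 0x0))))))

/-- The words. -/
noncomputable def WT : Tr := (.node (.node (.node (.node (.node (.node (.leaf (nat_lit 0x55)) (.leaf (nat_lit 0x6464))) (.node (.leaf (nat_lit 0x3636)) (.leaf (nat_lit 0x1616)))) (.node (.node (.leaf (nat_lit 0x4242)) (.leaf (nat_lit 0x767676))) (.node (.leaf (nat_lit 0x121212)) (.leaf (nat_lit 0x0))))) (.node (.node (.node (.leaf (nat_lit 0x5656)) (.leaf (nat_lit 0x7272))) (.node (.leaf (nat_lit 0x2424)) (.leaf (nat_lit 0x0)))) (.node (.node (.leaf (nat_lit 0x33)) (.leaf (nat_lit 0x323232))) (.node (.leaf (nat_lit 0x1717)) (.leaf (nat_lit 0x0)))))) (.node (.node (.node (.node (.leaf (nat_lit 0x5252)) (.leaf (nat_lit 0x6161))) (.node (.leaf (nat_lit 0x22)) (.leaf (nat_lit 0x0)))) (.node (.node (.leaf (nat_lit 0x4646)) (.leaf (nat_lit 0x262626))) (.node (.leaf (nat_lit 0x1414)) (.leaf (nat_lit 0x0))))) (.node (.node (.node (.leaf (nat_lit 0x44)) (.leaf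 (nat_lit 0x7474))) (.node (.leaf (nat_lit 0x2727)) (.leaf (nat_lit 0x0)))) (.node (.node (.leaf (nat_lit 0x343434)) (.leaf (nat_lit 0x676767))) (.node (.leaf (nat_lit 0x626262)) (.leaf (nat_lit 0x0))))))) (.node (.node (.node (.node (.node (.leaf (nat_lit 0x5151)) (.leaf (nat_lit 0x6565))) (.node (.leaf (nat_lit 0x3737)) (.leaf (nat_lit 0x0)))) (.node (.node (.leaf (nat_lit 0x454545)) (.leaf (nat_lit 0x212121))) (.node (.leaf (nat_lit 0x1313)) (.leaf (nat_lit 0x0))))) (.node (.node (.node (.leaf (nat_lit 0x5757)) (.leaf (nat_lit 0x7373))) (.node (.leaf (nat_lit 0x2525)) (.leaf (nat_lit 0x0)))) (.node (.node (.leaf (nat_lit 0x3131)) (.leaf (nat_lit 0x434343))) (.node (.leaf (nat_lit 0x66)) (.leaf (nat_lit 0x0)))))) (.node (.node (.node (.node (.leaf (nat_lit 0x5353)) (.leaf (nat_lit 0x77))) (.node (.leaf (nat_lit 0x232323)) (.leaf (nat_lit 0x0)))) (.node (.node (.leaf (nat_lit 0x4747)) (.leaf (nat_lit 0x7171))) (.node (.leaf (nat_lit 0x1515))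 (.leaf (nat_lit 0x0))))) (.node (.node (.node (.leaf (nat_lit 0x4141)) (.leaf (nat_lit 0x7575))) (.node (.leaf (nat_lit 0x11)) (.leaf (nat_lit 0x0)))) (.node (.node (.leaf (nat_lit 0x3535)) (.leaf (nat_lit 0x545454))) (.node (.leaf (nat_lit 0x6363)) (.leaf (nat_lit 0x0))))))))

/-- Side data. -/
noncomputable def ST : Tr := (.leaf (nat_lit 0x0))

/-- Hints for the words. -/
noncomputable def HT : Tr := (.node (.node (.node (.node (.node (.node (.leaf (nat_lit 0x20)) (.leaf (nat_lit 0x1a))) (.node (.leaf (nat_lit 0x1013)) (.leaf (nat_lit 0x1005)))) (.node (.node (.leaf (nat_lit 0xa)) (.leaf (nat_lit 0x29))) (.node (.leaf (nat_lit 0x1001)) (.leaf (nat_lit 0x0))))) (.node (.node (.node (.leaf (nat_lit 0x1021)) (.leaf (nat_lit 0xd))) (.node (.leaf (nat_lit 0x100a)) (.leaf (nat_lit 0x0)))) (.node (.node (.leaf (nat_lit 0x10)) (.leaf (nat_lit 0x9))) (.node (.leaf (nat_lit 0x1006)) (.leaf (nat_lit 0x0)))))) (.node (.node (.node (.node (.leaf (nat_lit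 0xb)) (.leaf (nat_lit 0x5))) (.node (.leaf (nat_lit 0x8)) (.leaf (nat_lit 0x0)))) (.node (.node (.leaf (nat_lit 0x101a)) (.leaf (nat_lit 0x100c))) (.node (.leaf (nat_lit 0x1003)) (.leaf (nat_lit 0x0))))) (.node (.node (.node (.leaf (nat_lit 0x18)) (.leaf (nat_lit 0x1b))) (.node (.leaf (nat_lit 0x100d)) (.leaf (nat_lit 0x0)))) (.node (.node (.leaf (nat_lit 0x1011)) (.leaf (nat_lit 0x1029))) (.node (.leaf (nat_lit 0xc)) (.leaf (nat_lit 0x0))))))) (.node (.node (.node (.node (.node (.leaf (nat_lit 0x4)) (.leaf (nat_lit 0x21))) (.node (.leaf (nat_lit 0x1014)) (.leaf (nat_lit 0x0)))) (.node (.node (.leaf (nat_lit 0x1019)) (.leaf (nat_lit 0x1))) (.node (.leaf (nat_lit 0x1002)) (.leaf (nat_lit 0x0))))) (.node (.node (.node (.leaf (nat_lit 0x1022)) (.leaf (nat_lit 0x14))) (.node (.leaf (nat_lit 0x100b)) (.leaf (nat_lit 0x0)))) (.node (.node (.leaf (nat_lit 0x2)) (.leaf (nat_lit 0x11))) (.node (.leaf (nat_lit 0x28)) (.leaf (nat_lit 0x0)))))) (.node (.node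 (.node (.node (.leaf (nat_lit 0x12)) (.leaf (nat_lit 0x30))) (.node (.leaf (nat_lit 0x1009)) (.leaf (nat_lit 0x0)))) (.node (.node (.leaf (nat_lit 0x101b)) (.leaf (nat_lit 0x6))) (.node (.leaf (nat_lit 0x1004)) (.leaf (nat_lit 0x0))))) (.node (.node (.node (.leaf (nat_lit 0x3)) (.leaf (nat_lit 0x22))) (.node (.leaf (nat_lit 0x0)) (.leaf (nat_lit 0x0)))) (.node (.node (.leaf (nat_lit 0x1012)) (.leaf (nat_lit 0x19))) (.node (.leaf (nat_lit 0x13)) (.leaf (nat_lit 0x0))))))))

/-- An entry of the table. -/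
noncomputable def ent (u a : ℕ) : ℕ :=
  Nat.land
    (Nat.shiftRight
      (Nat.rec (motive := fun _ => ℕ) (Tr.get T 0) (fun m _ => Tr.get T (Nat.succ m))
        (Nat.shiftRight u 4))
      (Nat.add (Nat.mul (Nat.land u 15) 189) (Nat.mul a 21)))
    2097151

/-- The parent of a label. -/
noncomputable def pa (v : ℕ) : ℕ := ent v 8

/-- A word. -/
noncomputable def wd (k : ℕ) : ℕ := Tr.get WT k

/-- Side data. -/
noncomputable def side (k : ℕ) : ℕ :=
  Nat.land
    (Nat.shiftRight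
      (Nat.rec (motive := fun _ => ℕ) (Tr.get ST 0) (fun m _ => Tr.get ST (Nat.succ m))
        (Nat.shiftRight k 5))
      (Nat.mul (Nat.land k 31) 17))
    131071

/-- A hint. -/
noncomputable def hint (k : ℕ) : ℕ := Tr.get HT k

/-- The letters of the subgroup. -/
def baseL : List ℕ := [0, 1, 2, 3, 5, 6]

/-- Is a letter in the subgroup. -/
noncomputable def base (a : ℕ) : Bool := baseL.contains a

/-- The check of a row. -/
noncomputable def F : ℕ → Bool :=
  rowF ent pa wd side base 7 63 6 12 255 4 15 8 6 63 49 64 512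

/-- Being alive. -/
noncomputable def al : ℕ → Bool := aliveB ent 7 64

end Cfsg.Agent.TcData.SE7c.I56
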